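import Cfsg.Agent.Lib.TC.HN.LevG

/-!
# Tools for the bound of the order

A stage of a chain for a subgroup given by words; a group generated by two commuting elements of small order;
the sign of the action on a normal subgroup of order three.
-/

namespace Cfsg.Agent.Lib.TC.HNA

open Cfsg.Agent.Lib.TC.Core Cfsg.Agent.Lib.TC.Perm Cfsg.Agent.Lib.TC.Chain Cfsg.Agent.Lib.TC.Pres

section stage

variable {Γ : Type*} [Group Γ] (E : Nat → Γ)

/-- One stage of the upper bound for a subgroup that is given by words. -/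
theorem stage_words (ls : List Nat) (inv' : Nat → Nat) (rels' subs' : List (List Nat))
    (wit : Nat → Nat × Nat × Bool) (C : Cert) (S : Subgroup Γ) (hle : S ≤ Lt E ls)
    (hk : C.k = ls.length)
    (hinv : ∀ c, c < ls.length → inv' c < ls.length ∧ E (ls.getD (inv' c) 0) = (E (ls.getD c 0))⁻¹)
    (hrel : ∀ l ∈ rels', (∀ z ∈ l, z < ls.length) ∧ prodA E (l.map fun z => ls.getD z 0) = 1)
    (hsub : ∀ l ∈ subs', (∀ z ∈ l, z < ls.length) ∧ prodA E (l.map fun z => ls.getD z 0) ∈ S)
    (h1 : chkRelRots C inv' rels' wit = true) (h2 : chkSubRots C subs' = true)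
    (hC : Checked C) :
    Nat.card (Lt E ls) = Nat.card S * S.relIndex (Lt E ls) ∧ S.relIndex (Lt E ls) ≠ 0 ∧
      S.relIndex (Lt E ls) ≤ C.countRoots C.N := by
  have hkk : ∀ c, c < C.k → c < ls.length := fun c hc => by omega
  have hE : ∀ c, c < C.k →
      inv' c < C.k ∧ stageE E ls (inv' c) = (stageE E ls c)⁻¹ := by
    intro c hc
    have hc' := hkk c hc
    have h7 := hinv c hc'
    refine ⟨by omega, Subtype.ext ?_⟩
    rw [stageE_coe E ls h7.1, Subgroup.coe_inv, stageE_coe E ls hc', h7.2]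
  have hgen : Subgroup.closure (stageE E ls '' {c | c < C.k}) = ⊤ := by
    rw [eq_top_iff]
    have h7 := Subgroup.closure_closure_coe_preimage (k := E '' {c | c ∈ ls})
    have h8 : Subgroup.closure (((↑) : Subgroup.closure (E '' {c | c ∈ ls}) → Γ) ⁻¹' (E '' {c | c ∈ ls})) ≤
        Subgroup.closure (stageE E ls '' {c | c < C.k}) := by
      apply Subgroup.closure_mono
      rintro ⟨x, hx⟩ ⟨c, hc, hcx⟩
      obtain ⟨i, hi, rfl⟩ := List.getElem_of_mem hc
      refine ⟨i, by change i < C.k; omega, Subtype.ext ?_⟩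
      change ((stageE E ls i : Lt E ls) : Γ) = x
      rw [stageE_coe E ls hi, List.getD_eq_getElem _ _ hi]
      exact hcx
    change (⊤ : Subgroup (Subgroup.closure (E '' {c | c ∈ ls}))) ≤ _
    rw [← h7]
    exact h8
  have hrelk : ∀ l ∈ rels', ∀ z ∈ l, z < C.k := by
    intro l hl z hz
    have := (hrel l hl).1 z hz
    omega
  have hrel' : ∀ l ∈ rels', prodA (stageE E ls) l = 1 := by
    intro l hl
    apply Subtype.ext
    rw [stage_prodA E ls l (hrel l hl).1, Subgroup.coe_one]
    exact (hrel l hl).2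
  have hsub' : ∀ l ∈ subs', prodA (stageE E ls) l ∈ S.subgroupOf (Lt E ls) := by
    intro l hl
    rw [Subgroup.mem_subgroupOf, stage_prodA E ls l (hsub l hl).1]
    exact (hsub l hl).2
  obtain ⟨h7, h8⟩ := finite_index_of_cert (S.subgroupOf (Lt E ls)) (stageE E ls) C inv' rels' subs'
    wit hE hgen hrelk hrel' hsub' h1 h2 hC
  refine ⟨?_, h7, h8⟩
  have h9 := Subgroup.card_mul_index (S.subgroupOf (Lt E ls))
  rw [Nat.card_congr (Subgroup.subgroupOfEquivOfLe hle).toEquiv] at h9
  exact h9.symm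

end stage

section pair

variable {Γ : Type*} [Group Γ]

/-- A group generated by two commuting elements of small orders. -/
theorem card_closure_pair_le (y a : Γ) (hy : y ^ 6 = 1) (ha : a ^ 2 = 1) (hc : y * a = a * y) :
    Nat.card (Subgroup.closure ({y, a} : Set Γ)) ≤ 12 ∧ Nat.card (Subgroup.closure ({y, a} : Set Γ)) ≠ 0 := by
  classical
  have hcm : Commute y a := hc
  let f : Fin 6 × Fin 2 → Γ := fun p => y ^ p.1.1 * a ^ p.2.1
  have hnf : ∀ i j : Nat, ∃ p : Fin 6 × Fin 2, f p = y ^ i * a ^ j := by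
    intro i j
    refine ⟨(⟨i % 6, Nat.mod_lt _ (by norm_num)⟩, ⟨j % 2, Nat.mod_lt _ (by norm_num)⟩), ?_⟩
    change y ^ (i % 6) * a ^ (j % 2) = _
    rw [← pow_eq_pow_mod i hy, ← pow_eq_pow_mod j ha]
  have hclosed : ∀ g ∈ Subgroup.closure ({y, a} : Set Γ), g ∈ Set.range f := by
    intro g hg
    have hyinv : y⁻¹ = y ^ 5 := by
      apply inv_eq_of_mul_eq_one_left
      rw [← pow_succ]
      exact hy
    have hainv : a⁻¹ = a ^ 1 := by
      apply inv_eq_of_mul_eq_one_left
      rw [← pow_succ]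
      exact ha
    have hform : ∀ g ∈ Subgroup.closure ({y, a} : Set Γ), ∃ i j : Nat, g = y ^ i * a ^ j := by
      intro g hg
      induction hg using Subgroup.closure_induction_right with
      | one => exact ⟨0, 0, by simp⟩
      | mul_right x _ u hu ih =>
        obtain ⟨i, j, rfl⟩ := ih
        rcases hu with rfl | hu
        · refine ⟨i + 1, j, ?_⟩
          have h1 : (a ^ j) * u = u * (a ^ j) := ((hcm.pow_right j).eq).symm
          rw [mul_assoc, h1, ← mul_assoc, pow_succ]
        · rw [Set.mem_singleton_iff] at hu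
          subst hu
          exact ⟨i, j + 1, by rw [mul_assoc, pow_succ]⟩
      | mul_inv_cancel x _ u hu ih =>
        obtain ⟨i, j, rfl⟩ := ih
        rcases hu with rfl | hu
        · refine ⟨i + 5, j, ?_⟩
          have h1 : (a ^ j) * u ^ 5 = u ^ 5 * (a ^ j) := ((hcm.pow_pow 5 j).eq).symm
          rw [hyinv, mul_assoc, h1, ← mul_assoc, pow_add]
        · rw [Set.mem_singleton_iff] at hu
          subst hu
          refine ⟨i, j + 1, ?_⟩
          rw [hainv, mul_assoc, pow_add]
    obtain ⟨i, j, rfl⟩ := hform g hg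
    obtain ⟨p, hp⟩ := hnf i j
    exact ⟨p, hp⟩
  let T := Subgroup.closure ({y, a} : Set Γ)
  let F : T → Fin 6 × Fin 2 := fun g => (hclosed g.1 g.2).choose
  have hF : ∀ g : T, f (F g) = g.1 := fun g => (hclosed g.1 g.2).choose_spec
  have hinj : Function.Injective F := by
    intro u v huv
    apply Subtype.ext
    rw [← hF u, ← hF v, huv]
  have hfin : Finite T := Finite.of_injective F hinj
  constructor
  · have h1 := Nat.card_le_card_of_injective F hinj
    simpa using h1
  · exact Nat.card_pos.ne'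

end pair

section sign

variable {Γ : Type*} [Group Γ]

/-- The sign of the action on a normal subgroup of order three. -/
theorem exists_sign (K N : Subgroup Γ) [Finite N] (hN : Nat.card N ≤ 3) (hnorm : ∀ g ∈ K, ∀ n ∈ N, g * n * g⁻¹ ∈ N)
    (c x : Γ) (hc : c ∈ N) (hc2 : c * c ≠ 1) (hx : x ∈ K) (hxc : x * c * x⁻¹ = c⁻¹) :
    ∃ s : K →* ℤˣ, s ⟨x, hx⟩ = -1 := by
  classical
  have hc1 : c ≠ 1 := by
    rintro rfl
    simp at hc2
  have hcc : c * c ≠ c := by
    intro h
    exact hc1 (mul_left_cancel (a := c) (by rw [h, mul_one]))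
  have hall : ∀ n ∈ N, n = 1 ∨ n = c ∨ n = c * c := by
    intro n hn
    by_contra hne
    simp only [not_or] at hne
    obtain ⟨h1, h2, h3⟩ := hne
    haveI : Fintype N := Fintype.ofFinite N
    let a1 : N := ⟨1, N.one_mem⟩
    let a2 : N := ⟨c, hc⟩
    let a3 : N := ⟨c * c, N.mul_mem hc hc⟩
    let a4 : N := ⟨n, hn⟩
    have hcard : ({a1, a2, a3, a4} : Finset N).card ≤ Nat.card N := by
      rw [Nat.card_eq_fintype_card]
      exact Finset.card_le_univ _
    have e12 : a1 ≠ a2 := fun h => hc1 (congrArg Subtype.val h).symm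
    have e13 : a1 ≠ a3 := fun h => hc2 (congrArg Subtype.val h).symm
    have e14 : a1 ≠ a4 := fun h => h1 (congrArg Subtype.val h).symm
    have e23 : a2 ≠ a3 := fun h => hcc (congrArg Subtype.val h).symm
    have e24 : a2 ≠ a4 := fun h => h2 (congrArg Subtype.val h).symm
    have e34 : a3 ≠ a4 := fun h => h3 (congrArg Subtype.val h).symm
    have h4 : ({a1, a2, a3, a4} : Finset N).card = 4 := by
      rw [Finset.card_insert_of_notMem (by simp [e12, e13, e14]),
        Finset.card_insert_of_notMem (by simp [e23, e24]),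
        Finset.card_insert_of_notMem (by simp [e34]), Finset.card_singleton]
    omega
  have hinv2 : c⁻¹ = c * c := by
    rcases hall _ (N.inv_mem hc) with h | h | h
    · exact absurd (inv_eq_one.1 h) hc1
    · exfalso
      apply hc2
      have : c * c⁻¹ = 1 := mul_inv_cancel c
      rw [h] at this
      exact this
    · exact h
  have hne : c ≠ c⁻¹ := by
    intro h
    apply hc2
    have : c * c⁻¹ = 1 := mul_inv_cancel c
    rwa [← h] at this
  have hdich : ∀ g ∈ K, g * c * g⁻¹ = c ∨ g * c * g⁻¹ = c⁻¹ := by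
    intro g hg
    rcases hall _ (hnorm g hg c hc) with h | h | h
    · exfalso
      apply hc1
      have : c = g⁻¹ * (g * c * g⁻¹) * g := by group
      rw [this, h]
      group
    · exact Or.inl h
    · right
      rw [h, hinv2]
  have hconj_inv : ∀ g : Γ, g * c⁻¹ * g⁻¹ = (g * c * g⁻¹)⁻¹ := by
    intro g
    group
  let s0 : K → ℤˣ := fun g => if g.1 * c * g.1⁻¹ = c then 1 else -1
  have hs1 : ∀ g : K, g.1 * c * g.1⁻¹ = c → s0 g = 1 := fun g h => if_pos h
  have hs2 : ∀ g : K, g.1 * c * g.1⁻¹ = c⁻¹ → s0 g = -1 := by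
    intro g h
    apply if_neg
    rw [h]
    exact fun h' => hne h'.symm
  have hmul : ∀ a b : Γ, (a * b) * c * (a * b)⁻¹ = a * (b * c * b⁻¹) * a⁻¹ := by
    intro a b
    group
  refine ⟨⟨⟨s0, ?_⟩, ?_⟩, ?_⟩
  · apply hs1
    simp
  · intro a b
    change s0 (a * b) = s0 a * s0 b
    rcases hdich a.1 a.2 with ha | ha <;> rcases hdich b.1 b.2 with hb | hb
    · rw [hs1 a ha, hs1 b hb, hs1 (a * b) (by
        rw [Subgroup.coe_mul, hmul, hb, ha])]
      simp
    · rw [hs1 a ha, hs2 b hb, hs2 (a * b) (by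
        rw [Subgroup.coe_mul, hmul, hb, hconj_inv, ha])]
      simp
    · rw [hs2 a ha, hs1 b hb, hs2 (a * b) (by
        rw [Subgroup.coe_mul, hmul, hb, ha])]
      simp
    · rw [hs2 a ha, hs2 b hb, hs1 (a * b) (by
        rw [Subgroup.coe_mul, hmul, hb, hconj_inv, ha, inv_inv])]
      simp
  · exact hs2 ⟨x, hx⟩ hxc

end sign

end Cfsg.Agent.Lib.TC.HNA
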