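import Cfsg.Agent.Lib.TC.Chain

/-!
# Double cosets and tuples of letters

An upper bound for the index of a subgroup from a closed family of double cosets, and the rules for
statements about tuples of conjugates of an element.
-/

namespace Cfsg.Agent.Lib.TC.HNA

open Cfsg.Agent.Lib.TC.Core Cfsg.Agent.Lib.TC.Perm

section index

variable {G : Type*} [Group G]

/-- The subgroup of the elements of `K` that fix the right coset `K u`. -/
def stabU (K : Subgroup G) (u : G) : Subgroup G where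
  carrier := {g | g ∈ K ∧ u * g * u⁻¹ ∈ K}
  one_mem' := ⟨K.one_mem, by simpa using K.one_mem⟩
  mul_mem' := by
    rintro a b ⟨h1, h2⟩ ⟨h3, h4⟩
    refine ⟨K.mul_mem h1 h3, ?_⟩
    have := K.mul_mem h2 h4
    simpa [mul_assoc] using this
  inv_mem' := by
    rintro a ⟨h1, h2⟩
    refine ⟨K.inv_mem h1, ?_⟩
    have := K.inv_mem h2
    simpa [mul_assoc] using this

theorem mem_stabU {K : Subgroup G} {u g : G} : g ∈ stabU K u ↔ g ∈ K ∧ u * g * u⁻¹ ∈ K := Iff.rfl

theorem stabU_le (K : Subgroup G) (u : G) : stabU K u ≤ K := fun _ h => h.1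

/-- The bound for the index from a family of double cosets covering the group. -/
theorem index_le_sum (K : Subgroup G) [Finite K] {r : Nat} (u : Fin r → G)
    (hall : ∀ g : G, ∃ j, ∃ k ∈ K, ∃ h ∈ K, g = k * u j * h) :
    K.index ≠ 0 ∧ K.index ≤ ∑ j, (stabU K (u j)).relIndex K := by
  classical
  let F : (Σ j : Fin r, (K ⧸ (stabU K (u j)).subgroupOf K)) → G ⧸ K := fun p =>
    Quotient.liftOn' p.2 (fun h : K => (QuotientGroup.mk ((h : G) * (u p.1)⁻¹) : G ⧸ K)) (by
      intro a b hab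
      rw [QuotientGroup.leftRel_apply, Subgroup.mem_subgroupOf] at hab
      apply QuotientGroup.eq.2
      have h1 := hab.2
      have h2 : ((a : G) * (u p.1)⁻¹)⁻¹ * ((b : G) * (u p.1)⁻¹) =
          u p.1 * ((a⁻¹ * b : K) : G) * (u p.1)⁻¹ := by
        simp [mul_assoc]
      rw [h2]
      exact h1)
  have hF : Function.Surjective F := by
    intro x
    obtain ⟨g, rfl⟩ := QuotientGroup.mk_surjective x
    obtain ⟨j, k, hk, h, hh, hg⟩ := hall g⁻¹
    refine ⟨⟨j, QuotientGroup.mk (⟨h⁻¹, K.inv_mem hh⟩ : K)⟩, ?_⟩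
    change (QuotientGroup.mk (h⁻¹ * (u j)⁻¹) : G ⧸ K) = QuotientGroup.mk g
    apply QuotientGroup.eq.2
    have h3 : g = h⁻¹ * (u j)⁻¹ * k⁻¹ := by
      have : g = (g⁻¹)⁻¹ := by simp
      rw [this, hg]
      group
    rw [h3]
    have h4 : (h⁻¹ * (u j)⁻¹)⁻¹ * (h⁻¹ * (u j)⁻¹ * k⁻¹) = k⁻¹ := by group
    rw [h4]
    exact K.inv_mem hk
  have hfin : Finite (Σ j : Fin r, (K ⧸ (stabU K (u j)).subgroupOf K)) := inferInstance
  have hX : Finite (G ⧸ K) := Finite.of_surjective F hF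
  constructor
  · rw [Subgroup.index]
    have : Nonempty (G ⧸ K) := ⟨QuotientGroup.mk 1⟩
    exact Nat.card_pos.ne'
  · have h1 := Nat.card_le_card_of_surjective F hF
    rw [Nat.card_sigma] at h1
    exact h1

/-- A closed family of double cosets covers the group. -/
theorem all_of_closed (K : Subgroup G) (S : Set G) (hS : Subgroup.closure S = ⊤) (t : G)
    (ht5 : t ^ 5 = 1) (hSc : ∀ y ∈ S, y ∈ K ∨ y = t ∨ y = t⁻¹) {r : Nat} (u : Fin r → G)
    (j0 : Fin r) (hj0 : u j0 = 1)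
    (hclosed : ∀ j, ∀ h ∈ K, ∃ j', ∃ k ∈ K, ∃ h' ∈ K, u j * h * t = k * u j' * h') :
    ∀ g : G, ∃ j, ∃ k ∈ K, ∃ h ∈ K, g = k * u j * h := by
  have hstep : ∀ g : G, (∃ j, ∃ k ∈ K, ∃ h ∈ K, g = k * u j * h) →
      ∃ j, ∃ k ∈ K, ∃ h ∈ K, g * t = k * u j * h := by
    rintro g ⟨j, k, hk, h, hh, rfl⟩
    obtain ⟨j', k', hk', h', hh', e⟩ := hclosed j h hh
    refine ⟨j', k * k', K.mul_mem hk hk', h', hh', ?_⟩
    calc k * u j * h * t = k * (u j * h * t) := by group
      _ = k * (k' * u j' * h') := by rw [e]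
      _ = _ := by group
  have hK : ∀ g y : G, y ∈ K → (∃ j, ∃ k ∈ K, ∃ h ∈ K, g = k * u j * h) →
      ∃ j, ∃ k ∈ K, ∃ h ∈ K, g * y = k * u j * h := by
    rintro g y hy ⟨j, k, hk, h, hh, rfl⟩
    exact ⟨j, k, hk, h * y, K.mul_mem hh hy, by group⟩
  have htinv : t⁻¹ = t * t * t * t := by
    have h1 : t * t * t * t * t = 1 := by
      simpa [pow_succ, mul_assoc] using ht5
    exact inv_eq_of_mul_eq_one_left h1
  have hinv : ∀ g : G, (∃ j, ∃ k ∈ K, ∃ h ∈ K, g = k * u j * h) →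
      ∃ j, ∃ k ∈ K, ∃ h ∈ K, g * t⁻¹ = k * u j * h := by
    intro g hg
    have h1 := hstep _ (hstep _ (hstep _ (hstep _ hg)))
    rw [htinv]
    simpa [mul_assoc] using h1
  intro g
  have hg : g ∈ Subgroup.closure S := by rw [hS]; trivial
  induction hg using Subgroup.closure_induction_right with
  | one => exact ⟨j0, 1, K.one_mem, 1, K.one_mem, by rw [hj0]; simp⟩
  | mul_right x _ y hy ih =>
    rcases hSc y hy with h | rfl | rfl
    · exact hK _ _ h ih
    · exact hstep _ ih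
    · exact hinv _ ih
  | mul_inv_cancel x _ y hy ih =>
    rcases hSc y hy with h | rfl | rfl
    · exact hK _ _ (K.inv_mem h) ih
    · exact hinv _ ih
    · simpa using hstep _ ih

end index

section tuples

variable {G : Type*} [Group G]

/-- The product of the letters of a tuple. -/
def tup (ℓ : Nat → G) (A : List Nat) : G := (A.map ℓ).prod

@[simp] theorem tup_nil (ℓ : Nat → G) : tup ℓ [] = 1 := rfl

theorem tup_cons (ℓ : Nat → G) (a : Nat) (A : List Nat) : tup ℓ (a :: A) = ℓ a * tup ℓ A := by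
  simp [tup]

theorem tup_append (ℓ : Nat → G) (A B : List Nat) : tup ℓ (A ++ B) = tup ℓ A * tup ℓ B := by
  simp [tup]

/-- The tuple of a conjugate. -/
theorem tup_map (ℓ : Nat → G) (f : Nat → Nat) (h : G) (A : List Nat)
    (hA : ∀ a ∈ A, ℓ (f a) = h * ℓ a * h⁻¹) : tup ℓ (A.map f) = h * tup ℓ A * h⁻¹ := by
  induction A with
  | nil => simp
  | cons a A ih =>
    rw [List.map_cons, tup_cons, tup_cons, hA a (by simp),
      ih (fun b hb => hA b (by simp [hb]))]
    group

end tuples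

end Cfsg.Agent.Lib.TC.HNA
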