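import Cfsg.Agent.Lib.TC.HN.Abs

/-!
# Chains of stabilizers inside a subgroup

Lower bounds for the order of a subgroup of a group acting on a table, from levels whose words lie in the subgroup.
-/

namespace Cfsg.Agent.Lib.TC.HNA

open Cfsg.Agent.Lib.TC.Core Cfsg.Agent.Lib.TC.Perm Cfsg.Agent.Lib.TC.Chain
open Cfsg.Agent.Lib.TC.Chain.PermLev
open Cfsg.Agent.Lib.PermComp.Core (bit setBit bit_setBit)

section lev

variable {Γ : Type*} [Group Γ] {n : Nat} (φ : Γ →* Equiv.Perm (Fin n))

/-- The elements of a subgroup that fix the points of a list. -/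
def KG (S : Subgroup Γ) (prev : List Nat) : Subgroup Γ where
  carrier := {g | g ∈ S ∧ ∀ b : Fin n, b.1 ∈ prev → φ g b = b}
  mul_mem' := by
    rintro a c ⟨h1, h2⟩ ⟨h3, h4⟩
    refine ⟨S.mul_mem h1 h3, fun b hb => ?_⟩
    rw [map_mul, Equiv.Perm.mul_apply, h4 b hb, h2 b hb]
  one_mem' := ⟨S.one_mem, fun _ _ => by simp⟩
  inv_mem' := by
    rintro a ⟨h1, h2⟩
    refine ⟨S.inv_mem h1, fun b hb => ?_⟩
    rw [map_inv, Equiv.Perm.inv_eq_iff_eq]
    exact (h2 b hb).symm

theorem mem_KG {S : Subgroup Γ} {prev : List Nat} {g : Γ} :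
    g ∈ KG φ S prev ↔ g ∈ S ∧ ∀ b : Fin n, b.1 ∈ prev → φ g b = b := Iff.rfl

theorem KG_nil (S : Subgroup Γ) : KG φ S [] = S := by
  ext g
  simp [mem_KG]

theorem KG_le (S : Subgroup Γ) (prev : List Nat) : KG φ S prev ≤ S := fun _ h => h.1

theorem KG_cons_le (S : Subgroup Γ) (prev : List Nat) (p : Nat) : KG φ S (p :: prev) ≤ KG φ S prev :=
  fun _ hg => ⟨hg.1, fun b hb => hg.2 b (by simp [hb])⟩

/-- The orbit of a point under a subgroup. -/
def orbG (T : Subgroup Γ) (p : Fin n) : Set (Fin n) := {q | ∃ g ∈ T, φ g p = q}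

/-- The step of a chain of stabilizers. -/
theorem card_stepG (S : Subgroup Γ) (prev : List Nat) (p : Fin n) :
    Nat.card (KG φ S prev) = Nat.card (KG φ S (p.1 :: prev)) * (orbG φ (KG φ S prev) p).ncard := by
  let T := KG φ S prev
  letI : MulAction T (Fin n) := MulAction.compHom (Fin n) (φ.comp T.subtype)
  have hsm : ∀ (g : T) (i : Fin n), g • i = φ g.1 i := fun _ _ => rfl
  have h1 := Subgroup.card_mul_index (MulAction.stabilizer T p)
  rw [MulAction.index_stabilizer] at h1
  have h3 : MulAction.orbit T p = orbG φ T p := by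
    ext q
    constructor
    · rintro ⟨g, rfl⟩
      exact ⟨g.1, g.2, rfl⟩
    · rintro ⟨g, hg, rfl⟩
      exact ⟨⟨g, hg⟩, rfl⟩
  rw [h3] at h1
  change Nat.card T = _
  rw [← h1]
  congr 1
  have h2 : MulAction.stabilizer T p = (KG φ S (p.1 :: prev)).subgroupOf T := by
    ext g
    rw [MulAction.mem_stabilizer_iff, Subgroup.mem_subgroupOf, mem_KG, hsm]
    constructor
    · intro h
      refine ⟨g.2.1, fun b hb => ?_⟩
      rcases List.mem_cons.1 hb with hb | hb
      · have : b = p := Fin.ext hb
        rw [this]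
        exact h
      · exact g.2.2 b hb
    · intro h
      exact h.2 p (by simp)
  rw [h2]
  exact Nat.card_congr (Subgroup.subgroupOfEquivOfLe (KG_cons_le φ S prev p.1)).toEquiv

variable {P : PT} {E : Nat → Γ} {φ' : Γ →* Equiv.Perm (Fin P.n)}

/-- The semantics of a level inside a subgroup. -/
theorem levOK_specG
    (hval : ∀ l : List Nat, (∀ z ∈ l, z < P.k) → ∀ i : Fin P.n,
      (φ' (prodA E l) i).1 = P.val l i.1)
    (S : Subgroup Γ) {prev : List Nat} {lv : Lev} (hS : ∀ w ∈ lv.words, prodA E w ∈ S)
    (h : levOK P prev lv = true) :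
    ∃ _ : lv.p < P.n, (lv.tree.length + 1) * Nat.card (KG φ' S (lv.p :: prev)) ≤ Nat.card (KG φ' S prev) := by
  simp only [levOK, andB_eq_true] at h
  obtain ⟨h1, h2, h3⟩ := h
  have hp : lv.p < P.n := Nat.le_of_ble_eq_true h1
  refine ⟨hp, ?_⟩
  have hw : ∀ w ∈ lv.words, (∀ z ∈ w, z < P.k) ∧ ∀ b ∈ prev, P.val w b = b := by
    generalize lv.words = ws at h2
    induction ws with
    | nil => simp
    | cons w ws ih =>
      have h2' : andB (List.rec true (fun z _ ih2 => andB (Nat.blt z P.k) ih2) w)
        (andB (List.rec true (fun b _ ih2 => andB (P.walk (fun u => Nat.beq u b) w b) ih2) prev)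
          (List.rec true (fun w _ ih =>
            andB (List.rec true (fun z _ ih2 => andB (Nat.blt z P.k) ih2) w)
              (andB (List.rec true (fun b _ ih2 => andB (P.walk (fun u => Nat.beq u b) w b) ih2) prev) ih))
            ws)) = true := h2
      rw [andB_eq_true, andB_eq_true] at h2'
      obtain ⟨h4, h5, h6⟩ := h2'
      intro w' hw'
      rcases List.mem_cons.1 hw' with rfl | hw'
      · exact ⟨allLt_spec h4, allFix_spec h5⟩
      · exact ih h6 w' hw'
  let O : Set (Fin P.n) := orbG φ' (KG φ' S prev) (⟨lv.p, hp⟩ : Fin P.n)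
  have hKw : ∀ w ∈ lv.words, prodA E w ∈ KG φ' S prev := by
    intro w hw'
    refine ⟨hS w hw', fun b hb => ?_⟩
    apply Fin.ext
    rw [hval w (hw w hw').1 b]
    exact (hw w hw').2 b.1 hb
  have hO : ∀ w ∈ lv.words, ∀ i ∈ O, φ' (prodA E w) i ∈ O := by
    rintro w hw' _ ⟨g, hg, rfl⟩
    refine ⟨prodA E w * g, Subgroup.mul_mem _ (hKw w hw') hg, ?_⟩
    rw [map_mul, Equiv.Perm.mul_apply]
  have hs : ∀ i, bit (setBit 0 lv.p) i = true → ∃ h : i < P.n, (⟨i, h⟩ : Fin P.n) ∈ O := by
    intro i hi
    rcases (bit_setBit 0 lv.p i).1 hi with hi | hi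
    · rw [bit_zero] at hi
      exact absurd hi (by simp)
    · subst hi
      exact ⟨hp, 1, Subgroup.one_mem _, by simp⟩
  have h4 := levGo_spec hval (fun w hw' => (hw w hw').1) hO lv.tree _ hs h3
  have h5 : {i : Fin P.n | bit (setBit 0 lv.p) i.1 = true} = {(⟨lv.p, hp⟩ : Fin P.n)} := by
    ext i
    simp only [Set.mem_setOf_eq, Set.mem_singleton_iff]
    rw [bit_setBit, bit_zero]
    constructor
    · rintro (h | h)
      · exact absurd h (by simp)
      · exact Fin.ext h
    · intro h
      exact Or.inr (congrArg Fin.val h)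
  rw [h5, Set.ncard_singleton] at h4
  have h6 := card_stepG φ' S prev (⟨lv.p, hp⟩ : Fin P.n)
  change Nat.card (KG φ' S prev) = Nat.card (KG φ' S (lv.p :: prev)) * O.ncard at h6
  rw [h6, Nat.mul_comm (lv.tree.length + 1)]
  exact Nat.mul_le_mul_left _ (by omega)

/-- The base points of a list of levels, with the last level first. -/
def basesOf : List Lev → List Nat
  | [] => []
  | lv :: ls => basesOf ls ++ [lv.p]

theorem levsOK_specG
    (hval : ∀ l : List Nat, (∀ z ∈ l, z < P.k) → ∀ i : Fin P.n,
      (φ' (prodA E l) i).1 = P.val l i.1)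
    (S : Subgroup Γ) (ls : List Lev) (prev : List Nat) (h : levsOK P prev ls = true)
    (hS : ∀ lv ∈ ls, ∀ w ∈ lv.words, prodA E w ∈ S) :
    prodM ls * Nat.card (KG φ' S (basesOf ls ++ prev)) ≤ Nat.card (KG φ' S prev) := by
  induction ls generalizing prev with
  | nil =>
    simp [prodM, basesOf]
  | cons lv ls ih =>
    have h' : andB (levOK P prev lv) (levsOK P (lv.p :: prev) ls) = true := h
    rw [andB_eq_true] at h'
    obtain ⟨_, h2⟩ := levOK_specG hval S (hS lv (by simp)) h'.1
    have h3 := ih (lv.p :: prev) h'.2 (fun lv' hl => hS lv' (by simp [hl]))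
    refine le_trans ?_ h2
    have h4 : basesOf (lv :: ls) ++ prev = basesOf ls ++ lv.p :: prev := by
      simp [basesOf]
    rw [h4]
    calc prodM (lv :: ls) * Nat.card (KG φ' S (basesOf ls ++ lv.p :: prev))
        = (lv.tree.length + 1) * (prodM ls * Nat.card (KG φ' S (basesOf ls ++ lv.p :: prev))) := by
          simp [prodM, Nat.mul_assoc]
      _ ≤ _ := Nat.mul_le_mul_left _ h3

/-- The lower bound for the order of a finite subgroup from a list of levels. -/
theorem prodM_le_card
    (hval : ∀ l : List Nat, (∀ z ∈ l, z < P.k) → ∀ i : Fin P.n,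
      (φ' (prodA E l) i).1 = P.val l i.1)
    (S : Subgroup Γ) [Finite S] (ls : List Lev) (h : levsOK P [] ls = true)
    (hS : ∀ lv ∈ ls, ∀ w ∈ lv.words, prodA E w ∈ S) :
    prodM ls ≤ Nat.card S := by
  have h1 := levsOK_specG hval S ls [] h hS
  rw [KG_nil] at h1
  have : Finite (KG φ' S (basesOf ls ++ [])) :=
    Finite.of_injective (fun x => (⟨x.1, KG_le φ' S _ x.2⟩ : S)) (by
      intro a b hab
      apply Subtype.ext
      simpa using congrArg Subtype.val hab)
  have h2 : 0 < Nat.card (KG φ' S (basesOf ls ++ [])) := Nat.card_pos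
  exact le_trans (Nat.le_mul_of_pos_right _ h2) h1

/-- Everything reached along a tree has a property closed under the words. -/
theorem levGo_mem {P : PT} {words : List (List Nat)} (Q : Nat → Prop)
    (hQ : ∀ w ∈ words, ∀ i, Q i → Q (P.val w i)) (t : List (Nat × Nat × Nat)) (seen : Nat)
    (hs : ∀ i, bit seen i = true → Q i) (ht : levGo P words t seen = true) :
    ∀ x ∈ t, Q x.1 := by
  induction t generalizing seen with
  | nil => simp
  | cons x t ih =>
    obtain ⟨q, q', w⟩ := x
    have h' : andB (bit seen q')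
      (Bool.rec
        (andB (Nat.blt q P.n)
          (andB (P.walk (fun u => Nat.beq u q) (words.getD w []) q')
            (force (setBit seen q) (levGo P words t))))
        false (bit seen q)) = true := ht
    rw [andB_eq_true] at h'
    obtain ⟨h1, h2⟩ := h'
    cases hq : bit seen q with
    | true =>
      rw [hq] at h2
      exact absurd h2 (by simp)
    | false =>
      rw [hq] at h2
      have h2' : andB (Nat.blt q P.n)
          (andB (P.walk (fun u => Nat.beq u q) (words.getD w []) q')
            (force (setBit seen q) (levGo P words t))) = true := h2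
      simp only [andB_eq_true, force_eq] at h2'
      obtain ⟨_, h4, h5⟩ := h2'
      rw [PT.walk_eq] at h4
      have h4' : P.val (words.getD w []) q' = q := Nat.eq_of_beq_eq_true h4
      have hQq : Q q := by
        have hq' := hs q' h1
        by_cases hi : w < words.length
        · have := hQ (words.getD w []) (by
            rw [List.getD_eq_getElem _ _ hi]
            exact List.getElem_mem hi) q' hq'
          rwa [h4'] at this
        · rw [List.getD_eq_default _ _ (by omega)] at h4'
          have h9 : q' = q := h4'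
          rwa [h9] at hq'
      have hs' : ∀ i, bit (setBit seen q) i = true → Q i := by
        intro i hi
        rcases (bit_setBit seen q i).1 hi with hi | hi
        · exact hs i hi
        · subst hi
          exact hQq
      intro y hy
      rcases List.mem_cons.1 hy with rfl | hy
      · exact hQq
      · exact ih (setBit seen q) hs' h5 y hy

end lev

section word

variable {Γ : Type*} [Group Γ] (E : Nat → Γ)

/-- A word for every element of the subgroup generated by letters closed under inverses. -/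
theorem exists_word (ls : List Nat) (hinv : ∀ c ∈ ls, ∃ c' ∈ ls, E c' = (E c)⁻¹) :
    ∀ g ∈ Lt E ls, ∃ w : List Nat, (∀ z ∈ w, z ∈ ls) ∧ prodA E w = g := by
  intro g hg
  induction hg using Subgroup.closure_induction_right with
  | one => exact ⟨[], by simp, rfl⟩
  | mul_right x _ y hy ih =>
    obtain ⟨c, hc, rfl⟩ := hy
    obtain ⟨w, hw, rfl⟩ := ih
    refine ⟨c :: w, ?_, ?_⟩
    · intro z hz
      rcases List.mem_cons.1 hz with rfl | hz
      · exact hc
      · exact hw z hz
    · rw [prodA_cons]
  | mul_inv_cancel x _ y hy ih =>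
    obtain ⟨c, hc, rfl⟩ := hy
    obtain ⟨w, hw, rfl⟩ := ih
    obtain ⟨c', hc', he⟩ := hinv c hc
    refine ⟨c' :: w, ?_, ?_⟩
    · intro z hz
      rcases List.mem_cons.1 hz with rfl | hz
      · exact hc'
      · exact hw z hz
    · rw [prodA_cons, he]

/-- A word in letters lies in the subgroup generated by them. -/
theorem prodA_mem_Lt (ls : List Nat) (w : List Nat) (hw : ∀ z ∈ w, z ∈ ls) : prodA E w ∈ Lt E ls := by
  induction w with
  | nil => exact Subgroup.one_mem _
  | cons z w ih =>
    rw [prodA_cons]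
    exact Subgroup.mul_mem _ (ih fun y hy => hw y (by simp [hy]))
      (Subgroup.subset_closure ⟨z, hw z (by simp), rfl⟩)

end word

end Cfsg.Agent.Lib.TC.HNA
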